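import Groth.Agent.L21.Units.DegreeValuation
import Groth.Agent.L18.DominatingDVR
import Mathlib.RingTheory.NoetherNormalization
import Mathlib.RingTheory.IntegralClosure.IntegralRestrict
import Mathlib.RingTheory.Localization.Finiteness
import Mathlib.RingTheory.DedekindDomain.IntegralClosure
import Mathlib.RingTheory.DedekindDomain.PID
import Mathlib.RingTheory.Ideal.MinimalPrime.Noetherian
import Mathlib.FieldTheory.Minpoly.IsIntegrallyClosed
import Mathlib.GroupTheory.Finiteness
import Mathlib.RingTheory.Finiteness.Basic

/-!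
Units of a finitely generated domain over a field, modulo the algebraic elements, form a finitely
generated group.
-/

set_option autoImplicit false
universe u v w

open MvPolynomial

namespace Groth.L21.Units

/-- The units of a field modulo those of a subring which is a semilocal principal ideal domain. -/
theorem fg_units_quotient (B : Type u) [CommRing B] [IsDomain B] [IsPrincipalIdealRing B]
    (hfin : {I : Ideal B | I.IsPrime}.Finite)
    (K : Type v) [Field K] [Algebra B K] [IsFractionRing B K] :
    Group.FG (Kˣ ⧸ (Units.map (algebraMap B K : B →* K)).range) := by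
  classical
  set H := (Units.map (algebraMap B K : B →* K)).range
  have hne : ∀ b : B, b ≠ 0 → algebraMap B K b ≠ 0 := fun b hb h =>
    hb (IsFractionRing.injective B K (h.trans (map_zero _).symm))
  let g : Ideal B → Kˣ ⧸ H := fun I =>
    if h : algebraMap B K (Submodule.IsPrincipal.generator I) ≠ 0 then
      (QuotientGroup.mk (Units.mk0 _ h)) else 1
  refine ⟨⟨(hfin.image g).toFinset, eq_top_iff.mpr fun x _ => ?_⟩⟩
  rw [Set.Finite.coe_toFinset]
  set S := Subgroup.closure (g '' {I : Ideal B | I.IsPrime})
  have hprime : ∀ b : B, ∀ hb : b ≠ 0, (QuotientGroup.mk (Units.mk0 _ (hne b hb)) : Kˣ ⧸ H) ∈ S := by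
    intro b
    induction b using UniqueFactorizationMonoid.induction_on_prime with
    | h₁ => exact fun h => absurd rfl h
    | h₂ u hu =>
      intro hb
      have : (QuotientGroup.mk (Units.mk0 _ (hne u hb)) : Kˣ ⧸ H) = 1 :=
        (QuotientGroup.eq_one_iff _).mpr ⟨hu.unit, Units.ext rfl⟩
      rw [this]; exact one_mem _
    | h₃ a p ha hp ih =>
      intro hb
      have hmk : Units.mk0 _ (hne _ hb) = Units.mk0 _ (hne p hp.ne_zero) * Units.mk0 _ (hne a ha) :=
        Units.ext (map_mul _ _ _)
      rw [hmk, QuotientGroup.mk_mul]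
      refine mul_mem ?_ (ih ha)
      set I : Ideal B := Ideal.span {p}
      have hI : I.IsPrime := (Ideal.span_singleton_prime hp.ne_zero).mpr hp
      have hassoc : Associated (Submodule.IsPrincipal.generator I) p :=
        Ideal.span_singleton_eq_span_singleton.mp (Ideal.span_singleton_generator I)
      obtain ⟨u, hu⟩ := hassoc
      have hgen0 : Submodule.IsPrincipal.generator I ≠ 0 := fun h => hp.ne_zero (by rw [← hu, h, zero_mul])
      have : (QuotientGroup.mk (Units.mk0 _ (hne p hp.ne_zero)) : Kˣ ⧸ H) = g I := by
        simp only [g, dif_pos (hne _ hgen0)]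
        refine ((QuotientGroup.eq).mpr (MonoidHom.mem_range.mpr ⟨u, ?_⟩)).symm
        apply Units.ext
        simp only [Units.coe_map, MonoidHom.coe_coe, Units.val_mul, Units.val_inv_eq_inv_val, Units.val_mk0]
        rw [eq_inv_mul_iff_mul_eq₀ (hne _ hgen0), ← map_mul, hu]
      rw [this]
      exact Subgroup.subset_closure ⟨I, hI, rfl⟩
  obtain ⟨x, rfl⟩ := QuotientGroup.mk_surjective x
  obtain ⟨a, b, hb, hab⟩ := IsFractionRing.div_surjective B (x : K)
  have hb0 : b ≠ 0 := nonZeroDivisors.ne_zero hb
  have ha0 : a ≠ 0 := fun h => x.ne_zero (by rw [← hab, h, map_zero, zero_div])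
  have : x = Units.mk0 _ (hne a ha0) / Units.mk0 _ (hne b hb0) := Units.ext (by simpa using hab.symm)
  rw [this, QuotientGroup.mk_div]
  exact div_mem (hprime a ha0) (hprime b hb0)

section

variable {k : Type u} [Field k] (σ : Type) [Nonempty σ] [Finite σ]
  (F : Type u) [Field F] [Algebra (MvPolynomial σ k) F] [IsFractionRing (MvPolynomial σ k) F]
  (K : Type u) [Field K] [Algebra F K] [FiniteDimensional F K]

/-- The integral closure in `K` of the valuation ring at infinity is a semilocal principal ideal
domain with fraction field `K`. -/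
theorem integralClosure_infVal :
    IsPrincipalIdealRing (integralClosure (infVal σ k F).valuationSubring K) ∧
      {I : Ideal (integralClosure (infVal σ k F).valuationSubring K) | I.IsPrime}.Finite ∧
      IsFractionRing (integralClosure (infVal σ k F).valuationSubring K) K := by
  set O := (infVal σ k F).valuationSubring
  haveI : IsDiscreteValuationRing O := isDiscreteValuationRing_infVal σ k F
  haveI : Algebra.IsAlgebraic O K :=
    (IsFractionRing.comap_isAlgebraic_iff (A := O) (K := F) (C := K)).mpr inferInstance
  set B := integralClosure O K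
  haveI hfrac : IsFractionRing B K := integralClosure.isFractionRing_of_finite_extension F K
  have hinjK : Function.Injective (algebraMap O K) := by
    rw [IsScalarTower.algebraMap_eq O F K, RingHom.coe_comp]
    exact (algebraMap F K).injective.comp (IsFractionRing.injective O F)
  -- a finite `O`-subalgebra with fraction field `K`
  obtain ⟨ι, _, b, hb⟩ : ∃ (ι : Type) (_ : Fintype ι) (b : Module.Basis ι F K), ∀ i, IsIntegral O (b i) := by
    classical
    let b₀ := Module.finBasis F K
    obtain ⟨y, hy, hint⟩ := exists_integral_multiples O F (Finset.univ.image b₀)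
    let b₁ := b₀.isUnitSMul (w := fun _ => algebraMap O F y) fun _ =>
      isUnit_iff_ne_zero.mpr fun h => hy (IsFractionRing.injective O F (h.trans (map_zero _).symm))
    refine ⟨_, inferInstance, b₁, fun i => ?_⟩
    simp only [b₁, Module.Basis.isUnitSMul_apply]
    rw [algebraMap_smul]
    exact hint (b₀ i) (Finset.mem_image_of_mem _ (Finset.mem_univ i))
  let R₀ := Algebra.adjoin O (Set.range b)
  haveI : Module.Finite O R₀ := Module.Finite.iff_fg.mpr
    (fg_adjoin_of_finite (Set.finite_range b) (by rintro _ ⟨i, rfl⟩; exact hb i))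
  haveI : IsNoetherianRing R₀ := IsNoetherianRing.of_finite O R₀
  haveI : Algebra.IsIntegral O R₀ := Algebra.IsIntegral.of_finite O R₀
  haveI : IsDomain R₀ := Subalgebra.isDomain R₀
  haveI : FaithfulSMul O R₀ := (faithfulSMul_iff_algebraMap_injective O R₀).mpr
    fun a c h => hinjK (congrArg Subtype.val h)
  haveI : Ring.DimensionLEOne R₀ := Ring.DimensionLEOne.of_isIntegral O R₀
  have hle : R₀ ≤ B := Algebra.adjoin_le (by rintro _ ⟨i, rfl⟩; exact hb i)
  haveI : IsNoetherianRing B := by
    letI : Algebra R₀ B := (Subalgebra.inclusion hle).toRingHom.toAlgebra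
    refine Groth.L18.isNoetherianRing_of_krullDimLE_one (R := R₀)
      (Subalgebra.inclusion_injective hle) fun z => ?_
    classical
    obtain ⟨d, hd⟩ := IsLocalization.exist_integer_multiples_of_finset (nonZeroDivisors O)
      (Finset.univ.image fun i => b.repr (z : K) i)
    have hr : algebraMap O K d * (z : K) ∈ R₀ := by
      rw [show (z : K) = ∑ i, b.repr (z : K) i • b i from (b.sum_repr _).symm, Finset.mul_sum]
      refine sum_mem fun i _ => ?_
      obtain ⟨c, hc⟩ := hd _ (Finset.mem_image_of_mem _ (Finset.mem_univ i))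
      have : algebraMap O K d * (b.repr (z : K) i • b i) = algebraMap O K c * b i := by
        rw [IsScalarTower.algebraMap_apply O F K c, hc, Algebra.smul_def, Algebra.smul_def, map_mul,
          ← IsScalarTower.algebraMap_apply, mul_assoc]
      rw [this]
      refine mul_mem (R₀.algebraMap_mem c) (Algebra.subset_adjoin ?_)
      exact ⟨i, rfl⟩
    refine ⟨algebraMap O R₀ d, ⟨_, hr⟩, fun h => ?_, Subtype.ext rfl⟩
    exact nonZeroDivisors.ne_zero d.2 (hinjK ((congrArg Subtype.val h).trans (map_zero _).symm))
  haveI : IsIntegrallyClosed B := integralClosure.isIntegrallyClosedOfFiniteExtension F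
  haveI : Ring.DimensionLEOne B := inferInstance
  haveI : IsDedekindDomain B := { }
  have hfin : {I : Ideal B | I.IsPrime}.Finite := by
    obtain ⟨π, hπ⟩ := IsDiscreteValuationRing.exists_irreducible O
    set J := Ideal.span {algebraMap O B π}
    have hπB : algebraMap O B π ≠ 0 := fun h =>
      hπ.ne_zero (hinjK ((congrArg Subtype.val h).trans (map_zero _).symm))
    refine ((Ideal.finite_minimalPrimes_of_isNoetherianRing B J).insert ⊥).subset fun P hP => ?_
    by_cases hP0 : P = ⊥
    · exact Or.inl hP0
    right
    haveI : P.IsPrime := hP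
    have hPO : P.comap (algebraMap O B) ≠ ⊥ := fun h =>
      hP0 (Ideal.eq_bot_of_comap_eq_bot h)
    have hmem : J ≤ P := by
      rw [Ideal.span_singleton_le_iff_mem, ← Ideal.mem_comap]
      have : P.comap (algebraMap O B) = IsLocalRing.maximalIdeal O :=
        IsLocalRing.eq_maximalIdeal ((inferInstance : (P.comap (algebraMap O B)).IsPrime).isMaximal hPO)
      rw [this]
      exact hπ.not_isUnit
    refine ⟨⟨hP, hmem⟩, fun Q hQ hQP => ?_⟩
    haveI : Q.IsPrime := hQ.1
    have hQ0 : Q ≠ ⊥ := fun h => hπB (by simpa [h, J] using hQ.2)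
    exact ((Ideal.IsPrime.isMaximal hQ.1 hQ0).eq_of_le hP.ne_top hQP).ge
  exact ⟨IsPrincipalIdealRing.of_finite_primes hfin, hfin, hfrac⟩

end

/-- **Units of a finitely generated domain**: a homomorphism to a finitely generated group whose
kernel consists of algebraic elements. -/
theorem exists_hom_units {k : Type u} [Field k] (A : Type u) [CommRing A] [IsDomain A]
    [Algebra k A] [Algebra.FiniteType k A] :
    ∃ (G : Type u) (_ : CommGroup G) (_ : Group.FG G) (φ : Aˣ →* G),
      ∀ a, φ a = 1 → IsIntegral k (a : A) := by
  obtain ⟨n, g, hg, hint⟩ := exists_integral_inj_algHom_of_fg k A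
  rcases Nat.eq_zero_or_pos n with rfl | hn
  · refine ⟨PUnit, inferInstance, inferInstance, 1, fun a _ => ?_⟩
    obtain ⟨p, hp, hpa⟩ := hint (a : A)
    refine ⟨p.map (MvPolynomial.isEmptyAlgEquiv k (Fin 0)).toRingEquiv.toRingHom, hp.map _, ?_⟩
    rw [Polynomial.eval₂_map]
    have he : (algebraMap k A).comp (MvPolynomial.isEmptyAlgEquiv k (Fin 0)).toRingEquiv.toRingHom =
        g.toRingHom := by
      refine RingHom.ext fun q => ?_
      obtain ⟨c, rfl⟩ := MvPolynomial.C_surjective (Fin 0) q
      show algebraMap k A (MvPolynomial.isEmptyAlgEquiv k (Fin 0) (algebraMap k _ c)) = g (algebraMap k _ c)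
      rw [AlgEquiv.commutes, AlgHom.commutes]
      rfl
    rw [he]; exact hpa
  haveI : Nonempty (Fin n) := ⟨⟨0, hn⟩⟩
  set P := MvPolynomial (Fin n) k
  algebraize [g.toRingHom]
  haveI : IsScalarTower k P A := IsScalarTower.of_algebraMap_eq fun r => (g.commutes r).symm
  haveI : FaithfulSMul P A := (faithfulSMul_iff_algebraMap_injective P A).mpr hg
  haveI : Algebra.IsIntegral P A := ⟨hint⟩
  haveI : Algebra.FiniteType P A := Algebra.FiniteType.of_restrictScalars_finiteType k P A
  haveI : Module.Finite P A := Algebra.IsIntegral.finite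
  let F := FractionRing P
  let K := FractionRing A
  letI : Algebra F K := FractionRing.liftAlgebra P K
  haveI : IsLocalization (Algebra.algebraMapSubmonoid A (nonZeroDivisors P)) K := inferInstance
  haveI : FiniteDimensional F K := Module.Finite.of_isLocalization P A (nonZeroDivisors P)
  obtain ⟨hB1, hB2, hB3⟩ := integralClosure_infVal (k := k) (Fin n) F K
  set O := (infVal (Fin n) k F).valuationSubring
  haveI : IsDiscreteValuationRing O := isDiscreteValuationRing_infVal (Fin n) k F
  set B := integralClosure O K
  haveI := hB1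
  haveI := hB3
  set H := (Units.map (algebraMap B K : B →* K)).range
  refine ⟨Kˣ ⧸ H, inferInstance, fg_units_quotient B hB2 K,
    (QuotientGroup.mk' H).comp (Units.map (algebraMap A K : A →* K)), fun a ha => ?_⟩
  rw [MonoidHom.comp_apply, QuotientGroup.mk'_apply, QuotientGroup.eq_one_iff] at ha
  obtain ⟨u, hu⟩ := ha
  have huK : ((u : B) : K) = algebraMap A K a := congrArg (fun z : Kˣ => (z : K)) hu
  have hO : IsIntegral O (algebraMap A K a) := huK ▸ (u : B).2
  have hPA : IsIntegral P (algebraMap A K a) := (Algebra.IsIntegral.isIntegral (a : A)).algebraMap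
  have h1 := minpoly.isIntegrallyClosed_eq_field_fractions' F hPA
  have h2 := minpoly.isIntegrallyClosed_eq_field_fractions' F hO
  have hcoef : ∀ i, ∃ c : k, (minpoly P (algebraMap A K a)).coeff i = C c := fun i => by
    apply eq_C_of_infVal_le_one (Fin n) k F
    have := congrArg (fun q : Polynomial F => q.coeff i) (h1.symm.trans h2)
    simp only [Polynomial.coeff_map] at this
    rw [this]
    exact ((minpoly O (algebraMap A K a)).coeff i).2
  have hlift : minpoly P (algebraMap A K a) ∈ Polynomial.lifts (algebraMap k P) :=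
    (Polynomial.lifts_iff_coeff_lifts _).mpr fun i => by
      obtain ⟨c, hc⟩ := hcoef i
      exact ⟨c, hc.symm⟩
  obtain ⟨q, hq, -, hqm⟩ := Polynomial.lifts_and_degree_eq_and_monic hlift (minpoly.monic hPA)
  refine ⟨q, hqm, IsFractionRing.injective A K ?_⟩
  rw [map_zero, ← Polynomial.aeval_def, ← Polynomial.aeval_algebraMap_apply,
    ← Polynomial.aeval_map_algebraMap P, hq, minpoly.aeval]

end Groth.L21.Units
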