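import Groth.Agent.L21.Units.FieldHom
import Groth.Prelude.Def_Coh
import Mathlib.AlgebraicGeometry.Properties
import Mathlib.AlgebraicGeometry.Noetherian
import Mathlib.AlgebraicGeometry.Morphisms.FiniteType
import Mathlib.RingTheory.Ideal.MinimalPrime.Noetherian
import Mathlib.RingTheory.UniqueFactorizationDomain.NormalizedFactors
import Mathlib.Topology.Connected.Clopen

/-!
Global functions integral over a base field do not depend on the base field (connected reduced
schemes locally of finite type).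
-/

set_option autoImplicit false
universe u

open CategoryTheory AlgebraicGeometry TopologicalSpace Polynomial

namespace Groth.L21.Units

/-- A field mapping to a reduced finitely generated algebra lands in the integral elements. -/
theorem exists_monic_of_fieldHom {k₁ : Type u} [Field k₁] (A : Type u) [CommRing A] [_root_.IsReduced A]
    [Algebra k₁ A] [Algebra.FiniteType k₁ A] {k₂ : Type u} [Field k₂] (ι : k₂ →+* A) (z : k₂) :
    ∃ q : k₁[X], q.Monic ∧ aeval (ι z) q = 0 := by
  classical
  haveI : IsNoetherianRing A := Algebra.FiniteType.isNoetherianRing k₁ A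
  have hfin : (minimalPrimes A).Finite := minimalPrimes.finite_of_isNoetherianRing A
  haveI : Fintype (minimalPrimes A) := hfin.fintype
  have key : ∀ P : minimalPrimes A, ∃ q : k₁[X], q.Monic ∧ aeval (ι z) q ∈ P.1 := fun P => by
    haveI : P.1.IsPrime := P.2.1.1
    obtain ⟨q, hq, hq0⟩ := isIntegral_of_fieldHom (k₁ := k₁) (A ⧸ P.1) ((Ideal.Quotient.mk P.1).comp ι) z
    refine ⟨q, hq, Ideal.Quotient.eq_zero_iff_mem.mp ?_⟩
    rw [← Ideal.Quotient.mkₐ_eq_mk k₁, ← aeval_algHom_apply, aeval_def]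
    exact hq0
  choose q hqm hq using key
  refine ⟨∏ P, q P, monic_prod_of_monic _ _ fun P _ => hqm P, IsNilpotent.eq_zero ?_⟩
  rw [← mem_nilradical, nilradical_eq_sInf, Ideal.mem_sInf]
  intro J hJ
  haveI : J.IsPrime := hJ
  obtain ⟨P, hP, hPJ⟩ := Ideal.exists_minimalPrimes_le (bot_le (a := J))
  rw [map_prod]
  exact hPJ (P.prod_mem (Finset.mem_univ ⟨P, hP⟩) (hq ⟨P, hP⟩))

variable {X : Scheme.{u}}

/-- In a connected reduced scheme locally of finite type over `k₁`, images of a field are integral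
over `k₁`. -/
theorem isIntegralElem_fieldHom [AlgebraicGeometry.IsReduced X] [ConnectedSpace X] {k₁ : Type u} [Field k₁]
    (a : X ⟶ Spec (CommRingCat.of k₁)) [LocallyOfFiniteType a] {k₂ : Type u} [Field k₂]
    (c₂ : k₂ →+* Γ(X, ⊤)) (z : k₂) :
    (a.appTop.hom.comp (Scheme.ΓSpecIso (CommRingCat.of k₁)).inv.hom).IsIntegralElem (c₂ z) := by
  classical
  set c₁ := a.appTop.hom.comp (Scheme.ΓSpecIso (CommRingCat.of k₁)).inv.hom
  let e : k₁[X] →+* Γ(X, ⊤) := eval₂RingHom c₁ (c₂ z)
  let L : k₁[X] → Set X := fun m => ((X.basicOpen (e m) : X.Opens) : Set X)ᶜ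
  have hmul : ∀ (m : k₁[X]) (p : X) , p ∈ L m ↔ ¬ IsUnit (X.presheaf.Γgerm p (e m)) := fun m p => by
    simp only [L, Set.mem_compl_iff, SetLike.mem_coe, Scheme.mem_basicOpen_top]; rfl
  -- coprime polynomials have disjoint loci
  have hcop : ∀ (m n : k₁[X]) (p : X), IsCoprime m n → p ∈ L m → p ∉ L n := by
    rintro m n p ⟨u, v, huv⟩ hm hn
    rw [hmul] at hm hn
    have h := congrArg (fun s => X.presheaf.Γgerm p (e s)) huv
    simp only [map_add, map_mul, map_one] at h
    rcases IsLocalRing.isUnit_or_isUnit_of_isUnit_add (h ▸ isUnit_one) with h' | h'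
    · exact hm (isUnit_of_mul_isUnit_right h')
    · exact hn (isUnit_of_mul_isUnit_right h')
  -- local annihilating polynomials
  have hloc : ∀ p : X, ∃ (U : X.Opens) (q : k₁[X]), p ∈ U ∧ q.Monic ∧
      ∀ x ∈ U, X.presheaf.Γgerm x (e q) = 0 := by
    intro p
    obtain ⟨U, hU, hpU, -⟩ := exists_isAffineOpen_mem_and_subset (X := X) (U := ⊤) (Opens.mem_top p)
    let res : Γ(X, ⊤) →+* Γ(X, U) := (X.presheaf.map (homOfLE le_top).op).hom
    letI := (res.comp c₁).toAlgebra
    haveI : Algebra.FiniteType k₁ Γ(X, U) := by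
      have h1 := a.finiteType_appLE (isAffineOpen_top _) hU (e := le_top)
      have h2 : res.comp c₁ = (a.appLE ⊤ U le_top).hom.comp
          (Scheme.ΓSpecIso (CommRingCat.of k₁)).inv.hom := rfl
      change (res.comp c₁).FiniteType
      rw [h2]
      exact h1.comp (RingHom.FiniteType.of_surjective _
        (Scheme.ΓSpecIso (CommRingCat.of k₁)).symm.commRingCatIsoToRingEquiv.surjective)
    obtain ⟨q, hq, hq0⟩ := exists_monic_of_fieldHom (k₁ := k₁) Γ(X, U) (res.comp c₂) z
    refine ⟨U, q, hpU, hq, fun x hx => ?_⟩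
    have h3 : res (e q) = 0 := by
      rw [coe_eval₂RingHom, hom_eval₂]; exact hq0
    rw [TopCat.Presheaf.Γgerm, ← X.presheaf.germ_res_apply (homOfLE le_top) x hx]
    exact (congrArg _ h3).trans (map_zero _)
  choose U q hpU hqm hq0 using hloc
  have hfac : ∀ p, ∀ x ∈ U p, ∃ m ∈ UniqueFactorizationMonoid.normalizedFactors (q p), x ∈ L m := by
    intro p x hx
    by_contra! h
    have hu : IsUnit (X.presheaf.Γgerm x (e (UniqueFactorizationMonoid.normalizedFactors (q p)).prod)) := by
      rw [map_multiset_prod, map_multiset_prod]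
      refine Multiset.prod_induction IsUnit _ (fun _ _ => IsUnit.mul) isUnit_one fun b hb => ?_
      obtain ⟨b', hb', rfl⟩ := Multiset.mem_map.mp hb
      obtain ⟨m, hm, rfl⟩ := Multiset.mem_map.mp hb'
      exact not_not.mp fun hc => h m hm ((hmul _ _).mpr hc)
    rw [UniqueFactorizationMonoid.prod_normalizedFactors_eq, (hqm p).normalize_eq_self,
      hq0 p x hx] at hu
    · exact not_isUnit_zero hu
    · exact (hqm p).ne_zero
  have hopen : ∀ m : k₁[X], m.Monic → Irreducible m → IsOpen (L m) := by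
    intro m hm hmi
    rw [isOpen_iff_mem_nhds]
    intro p hp
    let bad : Set X := ⋃ n ∈ (UniqueFactorizationMonoid.normalizedFactors (q p)).toFinset.erase m, L n
    have hbad : IsClosed bad := isClosed_biUnion_finset fun n _ => (X.basicOpen _).isOpen.isClosed_compl
    have hpb : p ∉ bad := by
      simp only [bad, Set.mem_iUnion, not_exists]
      intro n hn
      obtain ⟨hne, hn⟩ := Finset.mem_erase.mp hn
      rw [Multiset.mem_toFinset] at hn
      have hni := UniqueFactorizationMonoid.irreducible_of_normalized_factor n hn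
      have hnm : n.Monic := by
        rw [← UniqueFactorizationMonoid.normalize_normalized_factor n hn]
        exact Polynomial.monic_normalize hni.ne_zero
      exact hcop m n p (hmi.coprime_iff_not_dvd.mpr fun h =>
        hne (eq_of_monic_of_associated hnm hm (hmi.associated_of_dvd hni h).symm)) hp
    refine Filter.mem_of_superset ((IsOpen.inter (U p).isOpen hbad.isOpen_compl).mem_nhds ⟨hpU p, hpb⟩) ?_
    rintro x ⟨hxU, hxb⟩
    obtain ⟨n, hn, hxn⟩ := hfac p x hxU
    by_contra hxm
    have hne : n ≠ m := fun h => hxm (h ▸ hxn)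
    exact hxb (Set.mem_biUnion (Finset.mem_erase.mpr ⟨hne, Multiset.mem_toFinset.mpr hn⟩) hxn)
  obtain ⟨p₀⟩ := (inferInstance : Nonempty X)
  obtain ⟨m, hm, hpm⟩ := hfac p₀ p₀ (hpU p₀)
  have hmi := UniqueFactorizationMonoid.irreducible_of_normalized_factor m hm
  have hmm : m.Monic := by
    rw [← UniqueFactorizationMonoid.normalize_normalized_factor m hm]
    exact Polynomial.monic_normalize hmi.ne_zero
  have huniv : L m = Set.univ :=
    IsClopen.eq_univ ⟨(X.basicOpen _).isOpen.isClosed_compl, hopen m hmm hmi⟩ ⟨p₀, hpm⟩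
  refine ⟨m, hmm, ?_⟩
  change e m = 0
  rw [← basicOpen_eq_bot_iff, eq_bot_iff]
  intro x hx
  have : x ∈ L m := huniv ▸ Set.mem_univ x
  exact (this hx).elim

theorem isIntegralElem_trans [AlgebraicGeometry.IsReduced X] [ConnectedSpace X]
    {k₁ k₂ : Type u} [Field k₁] [Field k₂]
    (a : X ⟶ Spec (CommRingCat.of k₁)) [LocallyOfFiniteType a]
    (c₂ : k₂ →+* Γ(X, ⊤)) (x : Γ(X, ⊤)) (hx : c₂.IsIntegralElem x) :
    (a.appTop.hom.comp (Scheme.ΓSpecIso (CommRingCat.of k₁)).inv.hom).IsIntegralElem x := by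
  set c₁ := a.appTop.hom.comp (Scheme.ΓSpecIso (CommRingCat.of k₁)).inv.hom
  letI := c₁.toAlgebra
  let B := integralClosure k₁ Γ(X, ⊤)
  obtain ⟨p, hp, hpx⟩ := hx
  let g : k₂ →+* B := c₂.codRestrict B.toSubring fun z => isIntegralElem_fieldHom a c₂ z
  haveI : Algebra.IsIntegral k₁ B := ⟨fun y => (isIntegral_algHom_iff B.val Subtype.val_injective).mp y.2⟩
  show IsIntegral k₁ x
  refine isIntegral_trans (A := B) x ⟨p.map g, hp.map _, ?_⟩
  rw [eval₂_map]
  exact hpx

end Groth.L21.Units
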