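import Mathlib.Algebra.MvPolynomial.NoZeroDivisors
import Mathlib.Algebra.MvPolynomial.Degrees
import Mathlib.RingTheory.Valuation.ExtendToLocalization
import Mathlib.RingTheory.Valuation.ValuationSubring
import Mathlib.RingTheory.DiscreteValuationRing.Basic
import Mathlib.RingTheory.Localization.FractionRing
import Mathlib.Algebra.Order.GroupWithZero.Canonical

/-!
The degree valuation at infinity on the field of rational functions in several variables.
-/

set_option autoImplicit false
universe u v

open MvPolynomial WithZero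
open scoped Multiplicative

namespace Groth.L21.Units

variable (σ : Type v) (k : Type u) [Field k]

open Classical in
/-- `exp (totalDegree p)` as a valuation on polynomials. -/
noncomputable def degVal : Valuation (MvPolynomial σ k) ℤᵐ⁰ where
  toFun p := if p = 0 then 0 else exp (p.totalDegree : ℤ)
  map_zero' := if_pos rfl
  map_one' := by simp
  map_mul' p q := by
    by_cases hp : p = 0
    · simp [hp]
    by_cases hq : q = 0
    · simp [hq]
    simp [hp, hq, totalDegree_mul_of_isDomain hp hq, exp_add]
  map_add_le_max' p q := by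
    by_cases hp : p = 0
    · simp [hp]
    by_cases hq : q = 0
    · simp [hq]
    by_cases hpq : p + q = 0
    · simp [hpq]
    simp only [hp, hq, hpq, if_false, le_max_iff, exp_le_exp, Nat.cast_le]
    exact le_max_iff.mp (totalDegree_add p q)

theorem degVal_apply {p : MvPolynomial σ k} (hp : p ≠ 0) :
    degVal σ k p = exp (p.totalDegree : ℤ) := if_neg hp

theorem primeCompl_supp (p : MvPolynomial σ k) (hp : p ∈ nonZeroDivisors (MvPolynomial σ k)) :
    p ∈ (degVal σ k).supp.primeCompl := by
  intro h
  rw [SetLike.mem_coe, Valuation.mem_supp_iff, degVal_apply σ k (nonZeroDivisors.ne_zero hp)] at h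
  exact exp_ne_zero h

/-- The valuation at infinity on rational functions. -/
noncomputable def infVal (F : Type*) [Field F] [Algebra (MvPolynomial σ k) F]
    [IsFractionRing (MvPolynomial σ k) F] : Valuation F ℤᵐ⁰ :=
  (degVal σ k).extendToLocalization (primeCompl_supp σ k) F

variable (F : Type*) [Field F] [Algebra (MvPolynomial σ k) F] [IsFractionRing (MvPolynomial σ k) F]

theorem infVal_algebraMap (p : MvPolynomial σ k) :
    infVal σ k F (algebraMap _ F p) = degVal σ k p :=
  Valuation.extendToLocalization_apply_map_apply _ _ _ _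

/-- A polynomial which is bounded at infinity is constant. -/
theorem eq_C_of_infVal_le_one {p : MvPolynomial σ k} (h : infVal σ k F (algebraMap _ F p) ≤ 1) :
    ∃ c : k, p = C c := by
  by_cases hp : p = 0
  · exact ⟨0, by simp [hp]⟩
  rw [infVal_algebraMap, degVal_apply σ k hp, ← exp_zero, exp_le_exp] at h
  exact ⟨_, totalDegree_eq_zero_iff_eq_C.mp (by omega)⟩

/-- The valuation ring at infinity is a discrete valuation ring. -/
theorem isDiscreteValuationRing_infVal [Nonempty σ] :
    IsDiscreteValuationRing (infVal σ k F).valuationSubring := by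
  obtain ⟨i⟩ := ‹Nonempty σ›
  set w := infVal σ k F
  have hX : w (algebraMap _ F (X i : MvPolynomial σ k)) = exp 1 := by
    rw [infVal_algebraMap, degVal_apply σ k (X_ne_zero i), totalDegree_X]; rfl
  let t : F := (algebraMap _ F (X i : MvPolynomial σ k))⁻¹
  have ht : w t = exp (-1) := by rw [map_inv₀, hX, ← exp_neg]
  have htm : t ∈ w.valuationSubring := by
    rw [Valuation.mem_valuationSubring_iff, ht, ← exp_zero, exp_le_exp]; norm_num
  refine IsDiscreteValuationRing.ofHasUnitMulPowIrreducibleFactorization ⟨⟨t, htm⟩, ?_, ?_⟩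
  · refine ⟨fun hu => ?_, fun a b hab => ?_⟩
    · obtain ⟨u, hu⟩ := hu
      have h1 : (⟨t, htm⟩ : w.valuationSubring) * ↑u⁻¹ = 1 := by rw [← hu]; exact Units.mul_inv u
      have h2 := congrArg (fun z : w.valuationSubring => w (z : F)) h1
      simp only [MulMemClass.coe_mul, map_mul, OneMemClass.coe_one, map_one, ht] at h2
      have h3 : w ((↑u⁻¹ : w.valuationSubring) : F) ≤ 1 := (↑u⁻¹ : w.valuationSubring).2
      have h4 : exp (-1 : ℤ) * w ((↑u⁻¹ : w.valuationSubring) : F) ≤ exp (-1 : ℤ) * 1 :=
        mul_le_mul_right h3 _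
      rw [h2, mul_one, ← exp_zero, exp_le_exp] at h4
      norm_num at h4
    · have h := congrArg (fun z : w.valuationSubring => w (z : F)) hab
      simp only [MulMemClass.coe_mul, map_mul, ht] at h
      have ha : w (a : F) ≤ 1 := a.2
      have hb : w (b : F) ≤ 1 := b.2
      have key : ∀ c : w.valuationSubring, w (c : F) = 1 → IsUnit c := fun c hc => by
        have hc0 : (c : F) ≠ 0 := fun e => by simp [e] at hc
        exact isUnit_iff_exists_inv.mpr ⟨⟨(c : F)⁻¹, by
          rw [Valuation.mem_valuationSubring_iff, map_inv₀, hc, inv_one]⟩,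
          Subtype.ext (mul_inv_cancel₀ hc0)⟩
      have hna : w (a : F) ≠ 0 := fun e => by rw [e, zero_mul] at h; exact exp_ne_zero h
      have hnb : w (b : F) ≠ 0 := fun e => by rw [e, mul_zero] at h; exact exp_ne_zero h
      obtain ⟨p, hp⟩ : ∃ p : ℤ, w (a : F) = exp p := ⟨_, (exp_log hna).symm⟩
      obtain ⟨q, hq⟩ : ∃ q : ℤ, w (b : F) = exp q := ⟨_, (exp_log hnb).symm⟩
      rw [hp, hq, ← exp_add, exp_inj] at h
      rw [hp, ← exp_zero, exp_le_exp] at ha
      rw [hq, ← exp_zero, exp_le_exp] at hb
      rcases (show p = 0 ∨ q = 0 by omega) with rfl | rfl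
      · exact Or.inl (key a (by rw [hp, exp_zero]))
      · exact Or.inr (key b (by rw [hq, exp_zero]))
  · intro x hx
    have hx0 : (x : F) ≠ 0 := fun e => hx (Subtype.ext e)
    obtain ⟨m, hm⟩ : ∃ m : ℤ, w (x : F) = exp m := ⟨_, (exp_log ((map_ne_zero w).mpr hx0)).symm⟩
    have hm0 : m ≤ 0 := by
      have := x.2
      rw [Valuation.mem_valuationSubring_iff, hm, ← exp_zero, exp_le_exp] at this
      exact this
    have ht0 : t ≠ 0 := fun e => by rw [e, map_zero] at ht; exact exp_ne_zero ht.symm
    refine ⟨(-m).toNat, ?_⟩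
    have hu : w ((x : F) / t ^ (-m).toNat) = 1 := by
      rw [map_div₀, map_pow, ht, hm, ← exp_nsmul, ← exp_sub, ← exp_zero]
      congr 1
      rw [nsmul_eq_mul]
      omega
    refine ⟨⟨⟨_, hu.le⟩, ⟨((x : F) / t ^ (-m).toNat)⁻¹, by
      rw [Valuation.mem_valuationSubring_iff, map_inv₀, hu, inv_one]⟩, ?_, ?_⟩, ?_⟩
    · exact Subtype.ext (mul_inv_cancel₀ (div_ne_zero hx0 (pow_ne_zero _ ht0)))
    · exact Subtype.ext (inv_mul_cancel₀ (div_ne_zero hx0 (pow_ne_zero _ ht0)))
    · apply Subtype.ext
      simp [mul_div_cancel₀ _ (pow_ne_zero _ ht0)]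

end Groth.L21.Units
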