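import Groth.Agent.L21.Units.Affine
import Mathlib.FieldTheory.AlgebraicClosure
import Mathlib.FieldTheory.IsAlgClosed.AlgebraicClosure
import Mathlib.RingTheory.Finiteness.Cardinality

/-!
Every field contained in a finitely generated domain over a field consists of algebraic elements.
-/

set_option autoImplicit false
universe u

open Polynomial

namespace Groth.L21.Units

theorem infinite_monic_irreducible (F : Type u) [Field F] :
    Infinite {q : F[X] // q.Monic ∧ Irreducible q} := by
  classical
  by_contra h
  haveI : Finite {q : F[X] // q.Monic ∧ Irreducible q} := not_infinite_iff_finite.mp h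
  let f : AlgebraicClosure F → {q : F[X] // q.Monic ∧ Irreducible q} := fun a =>
    ⟨minpoly F a, minpoly.monic (Algebra.IsIntegral.isIntegral a),
      minpoly.irreducible (Algebra.IsIntegral.isIntegral a)⟩
  have : Finite (AlgebraicClosure F) := by
    refine Finite.of_injective (β := Σ q : {q : F[X] // q.Monic ∧ Irreducible q},
      {a // a ∈ q.1.rootSet (AlgebraicClosure F)}) (fun a => ⟨f a, a, ?_⟩) fun a b hab => ?_
    · rw [mem_rootSet]; exact ⟨(f a).2.1.ne_zero, minpoly.aeval F a⟩
    · exact congrArg (fun s : Σ q : {q : F[X] // q.Monic ∧ Irreducible q},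
        {a // a ∈ q.1.rootSet (AlgebraicClosure F)} => (s.2.1 : AlgebraicClosure F)) hab
  exact not_finite (AlgebraicClosure F)

/-- The image of a field in a finitely generated domain over a field is algebraic over that field. -/
theorem isIntegral_of_fieldHom {k₁ : Type u} [Field k₁] (A : Type u) [CommRing A] [IsDomain A]
    [Algebra k₁ A] [Algebra.FiniteType k₁ A] {k₂ : Type u} [Field k₂] (ι : k₂ →+* A) (z : k₂) :
    IsIntegral k₁ (ι z) := by
  classical
  obtain ⟨G, _, hG, ψ, hψ⟩ := exists_hom_units (k := k₁) A
  let K := FractionRing A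
  let φ : k₂ →+* K := (algebraMap A K).comp ι
  let L₀ : Subfield k₂ := (algebraicClosure k₁ K).toSubfield.comap φ
  have hmem : ∀ w : k₂, w ∈ L₀ ↔ IsIntegral k₁ (ι w) := fun w => by
    show φ w ∈ algebraicClosure k₁ K ↔ _
    rw [mem_algebraicClosure_iff', show φ w = algebraMap A K (ι w) from rfl,
      isIntegral_algebraMap_iff (IsFractionRing.injective A K)]
  rw [← hmem]
  by_contra hz
  have htr : ∀ p : L₀[X], aeval z p = 0 → p = 0 := by
    intro p hp
    by_contra hp0
    let E := algebraicClosure k₁ K
    let g : L₀ →+* E :=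
      (φ.comp L₀.subtype).codRestrict E.toSubfield.toSubring fun w => w.2
    have halg : IsAlgebraic E (φ z) := by
      refine ⟨p.map g, (Polynomial.map_ne_zero_iff g.injective).mpr hp0, ?_⟩
      rw [aeval_def, eval₂_map, show (algebraMap E K).comp g = φ.comp (algebraMap L₀ k₂) from rfl,
        ← hom_eval₂, ← aeval_def, hp, map_zero]
    refine hz (show φ z ∈ algebraicClosure k₁ K from ?_)
    rw [mem_algebraicClosure_iff]
    by_contra hc
    exact (Transcendental.algebraicClosure (show Transcendental k₁ (φ z) from hc)) halg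
  let Q := {q : L₀[X] // q.Monic ∧ Irreducible q}
  let w : Q → Aˣ := fun q => Units.map (ι : k₂ →* A)
    (Units.mk0 (aeval z q.1) fun h => q.2.1.ne_zero (htr _ h))
  let f : Q → Additive G := fun q => Additive.ofMul (ψ (w q))
  haveI : Module.Finite ℤ (Additive G) := Module.Finite.iff_addGroup_fg.mpr inferInstance
  have hinj : Function.Injective (Finsupp.linearCombination ℤ f) := by
    rw [injective_iff_map_eq_zero]
    intro n hn
    have hu : ψ (∏ q ∈ n.support, w q ^ n q) = 1 := by
      rw [map_prod]
      simp only [map_zpow]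
      apply Additive.ofMul.injective
      rw [ofMul_prod, ofMul_one, ← hn, Finsupp.linearCombination_apply]
      exact Finset.sum_congr rfl fun q _ => (ofMul_zpow _ _)
    have hint := hψ _ hu
    let a : L₀[X] := ∏ q ∈ n.support, q.1 ^ (n q).toNat
    let b : L₀[X] := ∏ q ∈ n.support, q.1 ^ (-n q).toNat
    have ha : a.Monic := monic_prod_of_monic _ _ fun q _ => q.2.1.pow _
    have hb : b.Monic := monic_prod_of_monic _ _ fun q _ => q.2.1.pow _
    have hb0 : aeval z b ≠ 0 := fun h => hb.ne_zero (htr _ h)
    have hval : ((∏ q ∈ n.support, w q ^ n q : Aˣ) : A) = ι (aeval z a / aeval z b) := by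
      have : (∏ q ∈ n.support, w q ^ n q) = Units.map (ι : k₂ →* A)
          (Units.mk0 (aeval z a / aeval z b)
            (div_ne_zero (fun h => ha.ne_zero (htr _ h)) hb0)) := by
        simp only [w, ← map_zpow, ← map_prod]
        congr 1
        apply Units.ext
        simp only [Units.coe_prod, Units.val_zpow_eq_zpow_val, Units.val_mk0, a, b, map_prod,
          map_pow, ← Finset.prod_div_distrib]
        refine Finset.prod_congr rfl fun q hq => ?_
        have hq0 : aeval z q.1 ≠ 0 := fun h => q.2.1.ne_zero (htr _ h)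
        rw [← zpow_natCast, ← zpow_natCast, ← zpow_sub₀ hq0]
        congr 1
        omega
      rw [this]; rfl
    rw [hval, ← hmem] at hint
    have hab : a = C (⟨_, hint⟩ : L₀) * b := sub_eq_zero.mp (htr _ (by
      rw [map_sub, map_mul, aeval_C,
        show algebraMap L₀ k₂ ⟨_, hint⟩ = aeval z a / aeval z b from rfl, div_mul_cancel₀ _ hb0,
        sub_self]))
    have hc : (⟨_, hint⟩ : L₀) = 1 := by
      have h := congrArg Polynomial.leadingCoeff hab
      rw [ha.leadingCoeff, leadingCoeff_mul, leadingCoeff_C, hb.leadingCoeff, mul_one] at h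
      exact h.symm
    rw [hc, map_one, one_mul] at hab
    ext q₀
    by_contra hne
    have hq₀ : q₀ ∈ n.support := Finsupp.mem_support_iff.mpr hne
    have hprime : Prime q₀.1 := q₀.2.2.prime
    have hdiv : ∀ s : Finsupp Q ℤ, q₀.1 ∣ ∏ q ∈ n.support, q.1 ^ (s q).toNat → 0 < s q₀ := by
      intro s hd
      obtain ⟨q, -, hq⟩ := hprime.exists_mem_finset_dvd hd
      have hpos : (s q).toNat ≠ 0 := fun h => by
        rw [h, pow_zero] at hq; exact hprime.not_dvd_one hq
      have : q₀ = q := Subtype.ext (eq_of_monic_of_associated q₀.2.1 q.2.1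
        ((hprime.irreducible).associated_of_dvd q.2.2 (hprime.dvd_of_dvd_pow hq)))
      subst this
      omega
    rcases lt_or_gt_of_ne (show n q₀ ≠ 0 from hne) with h | h
    · have hd : q₀.1 ∣ b := (dvd_pow_self _ (by omega)).trans (Finset.dvd_prod_of_mem _ hq₀)
      rw [← hab] at hd
      have := hdiv n hd
      omega
    · have hd : q₀.1 ∣ a := (dvd_pow_self _ (by omega)).trans (Finset.dvd_prod_of_mem _ hq₀)
      rw [hab] at hd
      have := hdiv (-n) (by simpa [b] using hd)
      rw [Finsupp.neg_apply] at this
      omega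
  haveI : Module.Finite ℤ (Q →₀ ℤ) := Module.Finite.of_injective _ hinj
  haveI : Infinite Q := infinite_monic_irreducible L₀
  haveI : Finite Q := Module.Finite.finite_basis (R := ℤ) (M := Q →₀ ℤ) Finsupp.basisSingleOne
  exact not_finite Q

end Groth.L21.Units
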