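import Groth.Agent.L21.Units.Affine
import Mathlib.AlgebraicGeometry.Properties
import Mathlib.AlgebraicGeometry.Morphisms.FiniteType
import Mathlib.AlgebraicGeometry.FunctionField
import Mathlib.Topology.Irreducible

/-!
Units of a reduced scheme locally of finite type over a field, modulo constants.
-/

set_option autoImplicit false
universe u

open CategoryTheory AlgebraicGeometry TopologicalSpace Set

namespace Groth.L21.Units

/-- In each irreducible component there is a nonempty affine open meeting no other component. -/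
theorem exists_affine_in_component {X : Scheme.{u}} [IsReduced X]
    (hirr : (irreducibleComponents (X : Type u)).Finite) {Z : Set X}
    (hZ : Z ∈ irreducibleComponents (X : Type u)) :
    ∃ U : X.Opens, IsAffineOpen U ∧ (U : Set X).Nonempty ∧ (U : Set X) ⊆ Z ∧
      IsIntegral (U : Scheme) := by
  let W : Set X := (⋃₀ (irreducibleComponents (X : Type u) \ {Z}))ᶜ
  have hWo : IsOpen W := by
    rw [isOpen_compl_iff, Set.sUnion_eq_biUnion]
    exact hirr.sdiff.isClosed_biUnion fun T hT => isClosed_of_mem_irreducibleComponents T hT.1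
  have hcl := closure_sUnion_irreducibleComponents_sdiff_singleton hirr Z hZ
  have hWZ : W ⊆ Z := subset_closure.trans hcl.le
  have hWne : W.Nonempty := by
    rw [nonempty_iff_ne_empty]
    intro h
    have : closure W = Z := hcl
    rw [h, closure_empty] at this
    exact hZ.1.nonempty.ne_empty this.symm
  obtain ⟨x, hx⟩ := hWne
  obtain ⟨U, hU, hxU, hUW⟩ := exists_isAffineOpen_mem_and_subset (U := (⟨W, hWo⟩ : X.Opens)) hx
  have hsub : (U : Set X) ⊆ Z := fun y hy => hWZ (hUW hy)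
  haveI : IrreducibleSpace (U : Scheme) :=
    Subtype.irreducibleSpace ⟨⟨x, hxU⟩, hZ.1.isPreirreducible.open_subset U.isOpen hsub⟩
  exact ⟨U, hU, ⟨x, hxU⟩, hsub, isIntegral_of_irreducibleSpace_of_isReduced _⟩

/-- **Units modulo constants form a finitely generated group.** -/
theorem fg_units_mod_constants (k : Type u) [Field k] (X : Scheme.{u}) (f : X ⟶ Spec (CommRingCat.of k))
    [LocallyOfFiniteType f] [IsReduced X] (hirr : (irreducibleComponents (X : Type u)).Finite)
    (c : k →+* Γ(X, ⊤)) (hc : c = f.appTop.hom.comp (Scheme.ΓSpecIso (CommRingCat.of k)).inv.hom)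
    (hint : ∀ x : Γ(X, ⊤), c.IsIntegralElem x → x ∈ Set.range c) :
    Group.FG ((Γ(X, ⊤))ˣ ⧸ (Units.map (c : k →* Γ(X, ⊤))).range) := by
  classical
  subst hc
  set c := f.appTop.hom.comp (Scheme.ΓSpecIso (CommRingCat.of k)).inv.hom
  haveI := hirr.to_subtype
  let I := irreducibleComponents (X : Type u)
  choose U hU hne hsub hintg using fun Z : I => exists_affine_in_component hirr Z.2
  haveI : ∀ Z, IsIntegral (U Z : Scheme) := hintg
  haveI : ∀ Z, IsAffine (U Z : Scheme) := hU
  let φ : ∀ Z : I, k →+* Γ(U Z, ⊤) := fun Z => (U Z).ι.appTop.hom.comp c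
  have key : ∀ Z : I, ∃ (G : Type u) (_ : CommGroup G) (_ : Group.FG G) (ψ : Γ(U Z, ⊤)ˣ →* G),
      ∀ a, ψ a = 1 → (φ Z).IsIntegralElem (a : Γ(U Z, ⊤)) := by
    intro Z
    have hft : (φ Z).FiniteType := by
      have h1 := (HasRingHomProperty.iff_of_isAffine (P := @LocallyOfFiniteType)).mp
        (inferInstance : LocallyOfFiniteType ((U Z).ι ≫ f))
      have e : φ Z = ((U Z).ι ≫ f).appTop.hom.comp (Scheme.ΓSpecIso (CommRingCat.of k)).inv.hom := by
        rw [Scheme.Hom.comp_appTop]; rfl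
      rw [e]
      exact h1.comp (RingHom.FiniteType.of_surjective _
        (Scheme.ΓSpecIso (CommRingCat.of k)).symm.commRingCatIsoToRingEquiv.surjective)
    letI := (φ Z).toAlgebra
    haveI : Algebra.FiniteType k Γ(U Z, ⊤) := hft
    exact exists_hom_units (k := k) Γ(U Z, ⊤)
  choose G hG hGfg ψ hψ using key
  let Φ : Γ(X, ⊤)ˣ →* (∀ Z, G Z) :=
    MonoidHom.pi fun Z => (ψ Z).comp (Units.map ((U Z).ι.appTop.hom : Γ(X, ⊤) →* Γ(U Z, ⊤)))
  have hker : Φ.ker ≤ (Units.map (c : k →* Γ(X, ⊤))).range := by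
    intro a ha
    have haZ : ∀ Z, (φ Z).IsIntegralElem ((U Z).ι.appTop.hom (a : Γ(X, ⊤))) := fun Z =>
      hψ Z _ (congrFun ha Z)
    choose p hpm hp using haZ
    haveI : Fintype I := Fintype.ofFinite I
    have hza : Polynomial.eval₂ c (a : Γ(X, ⊤)) (∏ Z, p Z) = 0 := by
      rw [← basicOpen_eq_bot_iff, eq_bot_iff]
      intro x hx
      obtain ⟨Z, hZ, hxZ⟩ : x ∈ ⋃₀ irreducibleComponents (X : Type u) := by
        rw [sUnion_irreducibleComponents]; trivial
      obtain ⟨y, hy⟩ := mem_closure_iff.mp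
        (subset_closure_inter_of_isPreirreducible_of_isOpen hZ.1.isPreirreducible
          (U ⟨Z, hZ⟩).isOpen ((hne ⟨Z, hZ⟩).imp fun y hy => ⟨hsub ⟨Z, hZ⟩ hy, hy⟩) hxZ)
        _ (X.basicOpen _).isOpen hx
      have h0 : (U ⟨Z, hZ⟩).ι.appTop.hom (Polynomial.eval₂ c (a : Γ(X, ⊤)) (∏ Z, p Z)) = 0 := by
        rw [Polynomial.hom_eval₂]
        exact Polynomial.eval₂_eq_zero_of_dvd_of_eval₂_eq_zero _ _
          (Finset.dvd_prod_of_mem p (Finset.mem_univ _)) (hp ⟨Z, hZ⟩)
      have h1 : (⟨y, hy.2.2⟩ : (U ⟨Z, hZ⟩ : Scheme)) ∈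
          (U ⟨Z, hZ⟩).ι ⁻¹ᵁ X.basicOpen (Polynomial.eval₂ c (a : Γ(X, ⊤)) (∏ Z, p Z)) := hy.1
      rw [Scheme.preimage_basicOpen_top, h0, Scheme.basicOpen_zero] at h1
      exact h1.elim
    obtain ⟨r, hr⟩ := hint a ⟨_, Polynomial.monic_prod_of_monic _ _ fun Z _ => hpm Z, hza⟩
    by_cases hr0 : r = 0
    · subst hr0
      rw [map_zero] at hr
      haveI : Subsingleton Γ(X, ⊤) := subsingleton_of_zero_eq_one (by
        rw [← a.mul_inv, ← hr, zero_mul])
      exact ⟨1, Units.ext (Subsingleton.elim _ _)⟩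
    · exact ⟨Units.mk0 r hr0, Units.ext hr⟩
  haveI : ∀ Z, Group.FG (G Z) := hGfg
  haveI : Group.FG Φ.range := by
    haveI : Module.Finite ℤ (Additive (∀ Z, G Z)) := Module.Finite.iff_addGroup_fg.mpr inferInstance
    have : (AddSubgroup.toIntSubmodule (Subgroup.toAddSubgroup Φ.range)).FG := IsNoetherian.noetherian _
    rw [Group.fg_iff_subgroup_fg, Subgroup.fg_iff_add_fg]
    rw [Submodule.fg_iff_addSubgroup_fg] at this
    exact this
  haveI : Group.FG (Γ(X, ⊤)ˣ ⧸ Φ.ker) :=
    Group.fg_of_surjective (f := (QuotientGroup.quotientKerEquivRange Φ).symm.toMonoidHom)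
      (QuotientGroup.quotientKerEquivRange Φ).symm.surjective
  exact Group.fg_of_surjective (f := QuotientGroup.map Φ.ker (Units.map (c : k →* Γ(X, ⊤))).range
      (MonoidHom.id _) hker) (fun q => by
    obtain ⟨q, rfl⟩ := QuotientGroup.mk_surjective q
    exact ⟨QuotientGroup.mk q, rfl⟩)

end Groth.L21.Units
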