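import Mathlib.AlgebraicGeometry.AffineScheme
import Mathlib.AlgebraicGeometry.FunctionField
import Mathlib.AlgebraicGeometry.Limits
import Mathlib.AlgebraicGeometry.PullbackCarrier
import Mathlib.Algebra.MonoidAlgebra.NoZeroDivisors
import Mathlib.Algebra.MonoidAlgebra.Lift
import Mathlib.Algebra.MonoidAlgebra.MapDomain
import Mathlib.Algebra.AffineMonoid.UniqueSums

/-! Units of `X × 𝔾ₘⁿ` for integral `X`. -/

set_option autoImplicit false
universe u

open CategoryTheory CategoryTheory.Limits AlgebraicGeometry TopologicalSpace Opposite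

noncomputable section

namespace Groth.L21.Units

/-- A unit of a group algebra over a domain is a monomial. -/
theorem eq_single_of_isUnit {R G : Type*} [CommRing R] [IsDomain R] [AddCommGroup G] [TwoUniqueSums G]
    {p : AddMonoidAlgebra R G} (hp : IsUnit p) : ∃ (g : G) (r : R), IsUnit r ∧ p = AddMonoidAlgebra.single g r := by
  classical
  obtain ⟨q, hq⟩ := hp.exists_right_inv
  have hne : ∀ {a b : AddMonoidAlgebra R G}, a * b = 1 → a.coeff.support.Nonempty := fun {a b} h => by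
    rw [Finsupp.support_nonempty_iff]
    intro h0
    rw [AddMonoidAlgebra.coeff_eq_zero] at h0
    rw [h0, zero_mul] at h
    exact one_ne_zero h.symm
  have hcard : p.coeff.support.card * q.coeff.support.card ≤ 1 := by
    by_contra hlt
    push Not at hlt
    obtain ⟨p1, hp1, p2, hp2, hne12, h1, h2⟩ := TwoUniqueSums.uniqueAdd_of_one_lt_card hlt
    rw [Finset.mem_product] at hp1 hp2
    have key : ∀ (x : G × G), x.1 ∈ p.coeff.support → x.2 ∈ q.coeff.support →
        UniqueAdd p.coeff.support q.coeff.support x.1 x.2 → x.1 + x.2 = 0 := by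
      intro x hx hy hu
      by_contra h0
      have h := AddMonoidAlgebra.coeff_mul_add_of_uniqueAdd hu
      rw [hq, AddMonoidAlgebra.one_def, AddMonoidAlgebra.coeff_single, Finsupp.single_eq_of_ne h0] at h
      exact mul_ne_zero (Finsupp.mem_support_iff.1 hx) (Finsupp.mem_support_iff.1 hy) h.symm
    have e1 := key p1 hp1.1 hp1.2 h1
    have e2 := key p2 hp2.1 hp2.2 h2
    exact hne12 (Prod.ext (h2 hp1.1 hp1.2 (e1.trans e2.symm)).1 (h2 hp1.1 hp1.2 (e1.trans e2.symm)).2)
  have hp' : p.coeff.support.card = 1 := by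
    have h1 := (hne hq).card_pos
    have h2 := (hne ((mul_comm q p).trans hq)).card_pos
    nlinarith
  obtain ⟨g, r, hr⟩ : ∃ g r, p = AddMonoidAlgebra.single g r := by
    obtain ⟨g, -, hg⟩ := Finsupp.card_support_eq_one.1 hp'
    exact ⟨g, p.coeff g, AddMonoidAlgebra.coeff_injective (by rw [AddMonoidAlgebra.coeff_single]; exact hg)⟩
  refine ⟨g, r, ?_, hr⟩
  have h := hp.map (AddMonoidAlgebra.liftNCRingHom (RingHom.id R) (1 : Multiplicative G →* R) fun _ _ => Commute.all _ _)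
  rw [hr, AddMonoidAlgebra.liftNCRingHom_single] at h
  simpa using h

variable (n : ℕ)

/-- The coordinate ring of the torus. -/
abbrev TorusRing := ULift.{u} (AddMonoidAlgebra ℤ (Fin n → ℤ))

/-- The torus. -/
abbrev Torus : Scheme.{u} := Spec (CommRingCat.of (TorusRing.{u} n))

theorem ext_torus {S : Type*} [CommRing S] {φ ψ : TorusRing.{u} n →+* S}
    (h : ∀ e, φ (ULift.up (AddMonoidAlgebra.single e 1)) = ψ (ULift.up (AddMonoidAlgebra.single e 1))) : φ = ψ := by
  let τ : AddMonoidAlgebra ℤ (Fin n → ℤ) →+* TorusRing.{u} n := ULift.ringEquiv.symm.toRingHom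
  suffices φ.comp τ = ψ.comp τ from RingHom.ext fun ⟨x⟩ => RingHom.congr_fun this x
  refine AddMonoidAlgebra.ringHom_ext (fun r => ?_) fun e => h e
  exact RingHom.congr_fun (RingHom.ext_int
    ((φ.comp τ).comp AddMonoidAlgebra.singleZeroRingHom) ((ψ.comp τ).comp AddMonoidAlgebra.singleZeroRingHom)) r

/-- The torus over `R` maps to the torus. -/
def baseMap (R : Type u) [CommRing R] : TorusRing.{u} n →+* AddMonoidAlgebra R (Fin n → ℤ) :=
  (AddMonoidAlgebra.mapRingHom (Fin n → ℤ) (Int.castRingHom R)).comp ULift.ringEquiv.toRingHom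

theorem baseMap_single (R : Type u) [CommRing R] (e : Fin n → ℤ) :
    baseMap n R (ULift.up (AddMonoidAlgebra.single e 1)) = AddMonoidAlgebra.single e 1 := by
  show AddMonoidAlgebra.mapRingHom (Fin n → ℤ) (Int.castRingHom R) (AddMonoidAlgebra.single e 1) = _
  simp

variable (X : Scheme.{u}) {R : CommRingCat.{u}} (j : Spec R ⟶ X)

/-- The chart over an affine open. -/
def chart : Spec (CommRingCat.of (AddMonoidAlgebra R (Fin n → ℤ))) ⟶ X ⨯ Torus.{u} n :=
  prod.lift (Spec.map (CommRingCat.ofHom (AddMonoidAlgebra.singleZeroRingHom (R := R) (M := Fin n → ℤ))) ≫ j)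
    (Spec.map (CommRingCat.ofHom (baseMap n R)))

theorem appTop_toSpecΓ_comp {S : Scheme.{u}} {A : CommRingCat.{u}} (φ : A ⟶ Γ(S, ⊤)) :
    (S.toSpecΓ ≫ Spec.map φ).appTop = (Scheme.ΓSpecIso A).hom ≫ φ := by
  rw [Scheme.Hom.comp_appTop, Scheme.toSpecΓ_appTop, Scheme.ΓSpecIso_naturality]

/-- The hom out of the group algebra with given restrictions. -/
def liftHom {R : Type u} [CommRing R] {S : Type u} [CommRing S] (ga : R →+* S) (gb : TorusRing.{u} n →+* S) :
    AddMonoidAlgebra R (Fin n → ℤ) →+* S :=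
  AddMonoidAlgebra.liftNCRingHom ga
    ((gb.comp ULift.ringEquiv.symm.toRingHom).toMonoidHom.comp (AddMonoidAlgebra.of ℤ (Fin n → ℤ)))
    fun _ _ => Commute.all _ _

theorem liftHom_comp_C {R : Type u} [CommRing R] {S : Type u} [CommRing S] (ga : R →+* S) (gb : TorusRing.{u} n →+* S) :
    (liftHom n ga gb).comp AddMonoidAlgebra.singleZeroRingHom = ga := by
  refine RingHom.ext fun r => ?_
  show AddMonoidAlgebra.liftNCRingHom ga _ (fun _ _ => Commute.all _ _) (AddMonoidAlgebra.single 0 r) = _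
  rw [AddMonoidAlgebra.liftNCRingHom_single, ofAdd_zero, map_one, mul_one]

theorem liftHom_comp_baseMap {R : Type u} [CommRing R] {S : Type u} [CommRing S] (ga : R →+* S)
    (gb : TorusRing.{u} n →+* S) : (liftHom n ga gb).comp (baseMap n R) = gb := by
  refine ext_torus n fun e => ?_
  rw [RingHom.comp_apply, baseMap_single]
  show AddMonoidAlgebra.liftNCRingHom ga _ (fun _ _ => Commute.all _ _) (AddMonoidAlgebra.single e 1) = _
  rw [AddMonoidAlgebra.liftNCRingHom_single, map_one, one_mul]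
  rfl

theorem hom_ext_chart {R : Type u} [CommRing R] {S : Type u} [CommRing S]
    {φ ψ : AddMonoidAlgebra R (Fin n → ℤ) →+* S}
    (h1 : φ.comp AddMonoidAlgebra.singleZeroRingHom = ψ.comp AddMonoidAlgebra.singleZeroRingHom)
    (h2 : φ.comp (baseMap n R) = ψ.comp (baseMap n R)) : φ = ψ := by
  refine AddMonoidAlgebra.ringHom_ext (fun r => RingHom.congr_fun h1 r) fun e => ?_
  have := RingHom.congr_fun h2 (ULift.up (AddMonoidAlgebra.single e 1))
  rwa [RingHom.comp_apply, RingHom.comp_apply, baseMap_single] at this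

/-- A morphism to an affine scheme as a ring map. -/
def gammaHom {S : Scheme.{u}} {A : CommRingCat.{u}} (g : S ⟶ Spec A) : A →+* Γ(S, ⊤) :=
  ((Scheme.ΓSpecIso A).inv ≫ g.appTop).hom

theorem gammaHom_comp {S : Scheme.{u}} {A B : CommRingCat.{u}} (g : S ⟶ Spec B) (φ : A ⟶ B) :
    gammaHom (g ≫ Spec.map φ) = (gammaHom g).comp φ.hom := by
  rw [gammaHom, gammaHom, Scheme.Hom.comp_appTop, ← Category.assoc, ← Scheme.ΓSpecIso_inv_naturality,
    Category.assoc, CommRingCat.hom_comp]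

theorem gammaHom_toSpecΓ {S : Scheme.{u}} {A : CommRingCat.{u}} (φ : A ⟶ Γ(S, ⊤)) :
    gammaHom (S.toSpecΓ ≫ Spec.map φ) = φ.hom := by
  rw [gammaHom, appTop_toSpecΓ_comp, Iso.inv_hom_id_assoc]

theorem ext_gammaHom {S : Scheme.{u}} {A : CommRingCat.{u}} {g g' : S ⟶ Spec A} (h : gammaHom g = gammaHom g') :
    g = g' := by
  refine ext_of_isAffine ?_
  have h' : (Scheme.ΓSpecIso A).inv ≫ g.appTop = (Scheme.ΓSpecIso A).inv ≫ g'.appTop := CommRingCat.hom_ext h
  exact (cancel_epi _).1 h'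

theorem isPullback_chart :
    IsPullback (chart n X j) (Spec.map (CommRingCat.ofHom (AddMonoidAlgebra.singleZeroRingHom (R := R) (M := Fin n → ℤ))))
      (prod.fst : X ⨯ Torus.{u} n ⟶ X) j := by
  refine ⟨⟨prod.lift_fst _ _⟩, ⟨PullbackCone.IsLimit.mk _
    (fun s => s.pt.toSpecΓ ≫ Spec.map (CommRingCat.ofHom (liftHom n (gammaHom s.snd) (gammaHom (s.fst ≫ prod.snd)))))
    (fun s => ?_) (fun s => ?_) (fun s m h1 h2 => ?_)⟩⟩
  · apply prod.hom_ext
    · rw [Category.assoc, chart, prod.lift_fst, s.condition, ← Category.assoc]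
      congr 1
      exact ext_gammaHom (by rw [gammaHom_comp, gammaHom_toSpecΓ]; exact liftHom_comp_C n _ _)
    · rw [Category.assoc, chart, prod.lift_snd]
      exact ext_gammaHom (by rw [gammaHom_comp, gammaHom_toSpecΓ]; exact liftHom_comp_baseMap n _ _)
  · exact ext_gammaHom (by rw [gammaHom_comp, gammaHom_toSpecΓ]; exact liftHom_comp_C n _ _)
  · refine ext_gammaHom ?_
    rw [gammaHom_toSpecΓ]
    refine hom_ext_chart n ?_ ?_
    · refine Eq.trans ?_ (liftHom_comp_C n _ _).symm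
      rw [← h2, gammaHom_comp]
      rfl
    · refine Eq.trans ?_ (liftHom_comp_baseMap n _ _).symm
      rw [← h1, Category.assoc, chart, prod.lift_snd, gammaHom_comp]
      rfl

theorem appTop_chart_fst (a : Γ(X, ⊤)) :
    (Scheme.ΓSpecIso _).hom ((chart n X j).appTop ((prod.fst : X ⨯ Torus.{u} n ⟶ X).appTop a)) =
      AddMonoidAlgebra.single 0 ((Scheme.ΓSpecIso R).hom (j.appTop a)) := by
  rw [← ConcreteCategory.comp_apply (prod.fst : X ⨯ Torus.{u} n ⟶ X).appTop, ← Scheme.Hom.comp_appTop, chart, prod.lift_fst,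
    Scheme.Hom.comp_appTop, ← ConcreteCategory.comp_apply, Category.assoc, Scheme.ΓSpecIso_naturality]
  rfl

theorem appTop_chart_snd (e : Fin n → ℤ) :
    (Scheme.ΓSpecIso _).hom ((chart n X j).appTop ((prod.snd : X ⨯ Torus.{u} n ⟶ Torus.{u} n).appTop
      ((Scheme.ΓSpecIso (CommRingCat.of (TorusRing.{u} n))).inv (ULift.up (AddMonoidAlgebra.single e 1))))) =
      AddMonoidAlgebra.single e 1 := by
  rw [← ConcreteCategory.comp_apply (prod.snd : X ⨯ Torus.{u} n ⟶ Torus.{u} n).appTop, ← Scheme.Hom.comp_appTop, chart,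
    prod.lift_snd, ← ConcreteCategory.comp_apply, ← ConcreteCategory.comp_apply, Scheme.ΓSpecIso_naturality,
    Iso.inv_hom_id_assoc]
  exact baseMap_single n R e

/-- The value of `u · t^e` on a chart. -/
theorem appTop_chart_mul (a : Γ(X, ⊤)) (e : Fin n → ℤ) :
    (Scheme.ΓSpecIso _).hom ((chart n X j).appTop ((prod.fst : X ⨯ Torus.{u} n ⟶ X).appTop a *
      (prod.snd : X ⨯ Torus.{u} n ⟶ Torus.{u} n).appTop
        ((Scheme.ΓSpecIso (CommRingCat.of (TorusRing.{u} n))).inv (ULift.up (AddMonoidAlgebra.single e 1))))) =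
      AddMonoidAlgebra.single e ((Scheme.ΓSpecIso R).hom (j.appTop a)) := by
  rw [map_mul, map_mul, appTop_chart_fst, appTop_chart_snd, AddMonoidAlgebra.single_mul_single, zero_add, mul_one]

theorem appTop_bijective_of_isOpenImmersion {U Y : Scheme.{u}} (J : U ⟶ Y) [IsOpenImmersion J] :
    ∃ ε : Γ(Y, J.opensRange) ≅ Γ(U, ⊤), J.appTop = Y.presheaf.map (homOfLE le_top).op ≫ ε.hom := by
  haveI : IsIso (J.appLE J.opensRange ⊤ (by simp)) := by
    rw [Scheme.Hom.appLE]
    haveI : IsIso (J.app J.opensRange) := Scheme.Hom.isIso_app J _ le_rfl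
    have h' : J ⁻¹ᵁ J.opensRange ≤ ⊤ := le_top
    haveI : IsIso (homOfLE (show (⊤ : U.Opens) ≤ J ⁻¹ᵁ J.opensRange by simp)) :=
      ⟨homOfLE h', Subsingleton.elim _ _, Subsingleton.elim _ _⟩
    infer_instance
  refine ⟨asIso (J.appLE J.opensRange ⊤ _), ?_⟩
  rw [asIso_hom, Scheme.Hom.map_appLE]
  simp [Scheme.Hom.appLE]

variable [AlgebraicGeometry.IsIntegral X]

/-- Existence and uniqueness of the decomposition of a unit. -/
theorem existsUnique_unit (v : Γ(X ⨯ Torus.{u} n, ⊤)) (hv : IsUnit v) :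
    ∃! p : (Γ(X, ⊤))ˣ × (Fin n → ℤ),
      v = (prod.fst : X ⨯ Torus.{u} n ⟶ X).appTop (p.1 : Γ(X, ⊤)) *
        (prod.snd : X ⨯ Torus.{u} n ⟶ Torus.{u} n).appTop
          ((Scheme.ΓSpecIso (CommRingCat.of (TorusRing.{u} n))).inv (ULift.up (AddMonoidAlgebra.single p.2 1))) := by
  let ι := {U : X.Opens // IsAffineOpen U ∧ Nonempty U}
  let J : ∀ i : ι, Spec (CommRingCat.of (AddMonoidAlgebra Γ(X, i.1) (Fin n → ℤ))) ⟶ X ⨯ Torus.{u} n :=
    fun i => chart n X i.2.1.fromSpec
  let val : ∀ i : ι, Γ(X ⨯ Torus.{u} n, ⊤) →+* AddMonoidAlgebra Γ(X, i.1) (Fin n → ℤ) :=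
    fun i => ((J i).appTop ≫ (Scheme.ΓSpecIso _).hom).hom
  haveI : ∀ i : ι, Nonempty i.1 := fun i => i.2.2
  haveI : ∀ i : ι, IsDomain Γ(X, i.1) := fun i => inferInstance
  have hres : ∀ (i : ι) (a : Γ(X, ⊤)),
      (Scheme.ΓSpecIso Γ(X, i.1)).hom (i.2.1.fromSpec.appTop a) = X.presheaf.map (homOfLE le_top).op a := fun i a => by
    have e : i.2.1.fromSpec.appTop ≫ (Scheme.ΓSpecIso Γ(X, i.1)).hom = X.presheaf.map (homOfLE le_top).op := by
      rw [Scheme.Hom.appTop, IsAffineOpen.fromSpec_app_of_le _ _ le_top]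
      have : (Spec Γ(X, i.1)).presheaf.map (homOfLE (le_top : i.2.1.fromSpec ⁻¹ᵁ (⊤ : X.Opens) ≤ ⊤)).op =
          𝟙 _ := (Spec Γ(X, i.1)).presheaf.map_id _
      erw [this, Category.comp_id, Category.assoc, Iso.inv_hom_id, Category.comp_id]
    exact ConcreteCategory.congr_hom e a
  have hval : ∀ (i : ι) (a : Γ(X, ⊤)) (e : Fin n → ℤ),
      val i ((prod.fst : X ⨯ Torus.{u} n ⟶ X).appTop a *
        (prod.snd : X ⨯ Torus.{u} n ⟶ Torus.{u} n).appTop
          ((Scheme.ΓSpecIso (CommRingCat.of (TorusRing.{u} n))).inv (ULift.up (AddMonoidAlgebra.single e 1)))) =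
        AddMonoidAlgebra.single e (X.presheaf.map (homOfLE le_top).op a) := fun i a e => by
    rw [← hres]
    exact appTop_chart_mul n X i.2.1.fromSpec a e
  choose g r hr hgr using fun i => eq_single_of_isUnit (hv.map (val i))
  -- restriction to a smaller chart
  have hsmall : ∀ (i k : ι) (h : k.1 ≤ i.1), g k = g i ∧ r k = X.presheaf.map (homOfLE h).op (r i) := by
    intro i k h
    let ρ : AddMonoidAlgebra Γ(X, i.1) (Fin n → ℤ) →+* AddMonoidAlgebra Γ(X, k.1) (Fin n → ℤ) :=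
      AddMonoidAlgebra.mapRingHom (Fin n → ℤ) (X.presheaf.map (homOfLE h).op).hom
    have hJ : J k = Spec.map (CommRingCat.ofHom ρ) ≫ J i := by
      apply prod.hom_ext
      · simp only [J, chart, Category.assoc, prod.lift_fst, ← Spec.map_comp_assoc]
        rw [← IsAffineOpen.map_fromSpec i.2.1 k.2.1 (homOfLE h).op, ← Spec.map_comp_assoc]
        congr 2
        ext x : 2
        simp [ρ, AddMonoidAlgebra.singleZeroRingHom]
      · simp only [J, chart, Category.assoc, prod.lift_snd, ← Spec.map_comp]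
        congr 1
        refine CommRingCat.hom_ext (ext_torus n fun e => ?_)
        simp [ρ, baseMap_single]
    have : val k v = ρ (val i v) := by
      simp only [val, hJ, Scheme.Hom.comp_appTop, Category.assoc, Scheme.ΓSpecIso_naturality]
      rfl
    rw [hgr, hgr] at this
    simp only [ρ, AddMonoidAlgebra.mapRingHom_single] at this
    rcases AddMonoidAlgebra.single_inj.1 this with ⟨h1, h2⟩ | ⟨h1, -⟩
    · exact ⟨h1, h2⟩
    · exact absurd h1 (hr k).ne_zero
  have hcommon : ∀ i k : ι, ∃ l : ι, l.1 ≤ i.1 ∧ l.1 ≤ k.1 := fun i k => by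
    obtain ⟨x, hxi, hxk⟩ := nonempty_preirreducible_inter i.1.2 k.1.2
      (by obtain ⟨a⟩ := i.2.2; exact ⟨a.1, a.2⟩) (by obtain ⟨a⟩ := k.2.2; exact ⟨a.1, a.2⟩)
    obtain ⟨W, hW, hxW, hle⟩ := exists_isAffineOpen_mem_and_subset (X := X) (x := x) (U := i.1 ⊓ k.1) ⟨hxi, hxk⟩
    exact ⟨⟨W, hW, ⟨⟨x, hxW⟩⟩⟩, fun y hy => (hle hy).1, fun y hy => (hle hy).2⟩
  have hg : ∀ i k, g i = g k := fun i k => by
    obtain ⟨l, h1, h2⟩ := hcommon i k
    rw [← (hsmall i l h1).1, ← (hsmall k l h2).1]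
  have hcov : (⊤ : X.Opens) ≤ ⨆ i : ι, i.1 := fun x _ => by
    obtain ⟨W, hW, hxW, -⟩ := exists_isAffineOpen_mem_and_subset (X := X) (x := x) (U := ⊤) trivial
    exact Opens.mem_iSup.2 ⟨⟨W, hW, ⟨⟨x, hxW⟩⟩⟩, hxW⟩
  have glue : ∀ (s : ∀ i : ι, Γ(X, i.1)), (∀ (i k : ι) (h : k.1 ≤ i.1), s k = X.presheaf.map (homOfLE h).op (s i)) →
      ∃ a : Γ(X, ⊤), ∀ i, X.presheaf.map (homOfLE le_top).op a = s i := by
    intro s hs
    have hcompat : TopCat.Presheaf.IsCompatible X.sheaf.1 (fun i : ι => i.1) s := by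
      intro i k
      obtain ⟨l, h1, h2⟩ := hcommon i k
      haveI : Nonempty l.1 := l.2.2
      apply map_injective_of_isIntegral X (homOfLE (le_inf h1 h2))
      show X.presheaf.map _ (X.presheaf.map _ (s i)) = X.presheaf.map _ (X.presheaf.map _ (s k))
      rw [← ConcreteCategory.comp_apply, ← ConcreteCategory.comp_apply, ← X.presheaf.map_comp, ← X.presheaf.map_comp]
      exact ((hs i l h1).symm.trans (hs k l h2))
    obtain ⟨a, ha, -⟩ := X.sheaf.existsUnique_gluing' (fun i : ι => i.1) ⊤ (fun i => homOfLE le_top) hcov s hcompat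
    exact ⟨a, ha⟩
  obtain ⟨a, ha⟩ := glue r fun i k h => (hsmall i k h).2
  obtain ⟨b, hb⟩ := glue (fun i => ↑(hr i).unit⁻¹) fun i k h => by
    refine (hr k).mul_left_cancel ?_
    rw [IsUnit.mul_val_inv, (hsmall i k h).2, ← map_mul, IsUnit.mul_val_inv, map_one]
  have hab : a * b = 1 := by
    refine X.sheaf.eq_of_locally_eq' (fun i : ι => i.1) ⊤ (fun i => homOfLE le_top) hcov _ _ fun i => ?_
    show X.presheaf.map _ (a * b) = X.presheaf.map _ 1
    rw [map_mul, ha, hb, IsUnit.mul_val_inv, map_one]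
  obtain ⟨i₀⟩ : Nonempty ι := by
    obtain ⟨x⟩ : Nonempty X := inferInstance
    obtain ⟨W, hW, hxW, -⟩ := exists_isAffineOpen_mem_and_subset (X := X) (x := x) (U := ⊤) trivial
    exact ⟨⟨W, hW, ⟨⟨x, hxW⟩⟩⟩⟩
  let au : (Γ(X, ⊤))ˣ := Units.mkOfMulEqOne a b hab
  refine ⟨(au, g i₀), ?_, ?_⟩
  · haveI : ∀ i : ι, IsOpenImmersion (J i) := fun i =>
      MorphismProperty.of_isPullback (isPullback_chart n X i.2.1.fromSpec).flip inferInstance
    refine (X ⨯ Torus.{u} n).sheaf.eq_of_locally_eq' (fun i => (J i).opensRange) ⊤ (fun i => homOfLE le_top) ?_ _ _ fun i => ?_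
    · intro z _
      obtain ⟨W, hW, hzW, -⟩ := exists_isAffineOpen_mem_and_subset (X := X)
        (x := (prod.fst : X ⨯ Torus.{u} n ⟶ X) z) (U := ⊤) trivial
      let i : ι := ⟨W, hW, ⟨⟨_, hzW⟩⟩⟩
      obtain ⟨y, hy⟩ : (prod.fst : X ⨯ Torus.{u} n ⟶ X) z ∈ Set.range hW.fromSpec := by rw [hW.range_fromSpec]; exact hzW
      obtain ⟨w, hw, -⟩ := Scheme.exists_preimage_of_isPullback (isPullback_chart n X hW.fromSpec) z y hy.symm
      exact Opens.mem_iSup.2 ⟨i, w, hw⟩
    · obtain ⟨ε, hε⟩ := appTop_bijective_of_isOpenImmersion (J i)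
      refine (ConcreteCategory.bijective_of_isIso (ε.hom ≫ (Scheme.ΓSpecIso _).hom)).1 ?_
      have key : ∀ z, (ε.hom ≫ (Scheme.ΓSpecIso _).hom)
          ((X ⨯ Torus.{u} n).presheaf.map (homOfLE le_top).op z) = val i z := fun z => by
        show _ = ((J i).appTop ≫ (Scheme.ΓSpecIso _).hom) z
        rw [hε, Category.assoc]
        rfl
      refine (key _).trans (Eq.trans ?_ (key _).symm)
      rw [hgr]
      refine Eq.trans ?_ (hval i a (g i₀)).symm
      rw [ha, hg i i₀]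
  · rintro ⟨p, e⟩ hp
    have h : ∀ i, g i = e ∧ r i = X.presheaf.map (homOfLE le_top).op (p : Γ(X, ⊤)) := fun i => by
      have := congrArg (val i) hp
      rw [hgr, hval] at this
      rcases AddMonoidAlgebra.single_inj.1 this with ⟨h1, h2⟩ | ⟨h1, -⟩
      · exact ⟨h1, h2⟩
      · exact absurd h1 (hr i).ne_zero
    refine Prod.ext (Units.ext ?_) (h i₀).1.symm
    refine X.sheaf.eq_of_locally_eq' (fun i : ι => i.1) ⊤ (fun i => homOfLE le_top) hcov _ _ fun i => ?_
    exact (h i).2.symm.trans (ha i).symm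

end Groth.L21.Units
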